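import Groth.Agent.Lib.Exchange.FlatTwist
import Groth.Agent.Lib.ExchangeFP29.ProjFibre
import Groth.Agent.Lib.HilbFib53.Push
import Groth.Agent.Lib.HilbFib53.Local
import Groth.Agent.Lib.DerivedOX.RestrictRpush
import Groth.Agent.Lib.TensorMod.TensorInv

/-!
# Flatness through twists by a relatively ample module, over any quasi-compact base
-/

set_option autoImplicit false
set_option linter.style.haveILetI false

noncomputable section

universe u

open CategoryTheory Limits AlgebraicGeometry Opposite TopologicalSpace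

namespace Groth.Agent.H54.TwistFlat

open Groth.Agent.Lib Groth.Agent.Lib.Exchange.FlatTwist
open ZarCoh.Exchange.Local (AV XV MV)
open Groth.Agent.Lib.TensorMod.Basic (tensorIso)

variable {X Y : Scheme.{u}} (f : X ⟶ Y)

/-- Flatness from finite locally free direct images of the twists. -/
theorem isFlatOver_of_finLocFree [IsProper f] {L : X.Modules} (ha : RelAmple.IsRelAmple f L)
    (hL : PicF.IsInvertible L) {F : X.Modules} [F.IsQuasicoherent] (n₀ : ℕ)
    (h : ∀ n, n₀ ≤ n → FlatMod.IsFinLocFree ((Coh.push f).obj (CohB1.tensorMod F (CohB1.tensorPow L n)))) :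
    FlatMod.IsFlatOver f F := by
  intro x
  haveI : HasInjectiveResolutions X.Modules :=
    haveI := DerivedOX.Grothendieck.enoughInjectives_modules X
    inferInstance
  obtain ⟨V, hV, hxV, -⟩ := exists_isAffineOpen_mem_and_subset (X := Y) (x := f x) (U := ⊤) trivial
  haveI : IsAffine (V : Scheme.{u}) := hV
  let pV := XV f V ↘ Spec (CommRingCat.of (AV V))
  let O := f ⁻¹ᵁ V
  let LV := L.restrict O.ι
  obtain ⟨hLV, hc, hx⟩ := Ample.Pow.isAmple_iff.1 (ha.2 ⟨V, hV⟩)
  haveI := hc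
  haveI : QuasiSeparatedSpace (XV f V) := quasiSeparatedSpace_of_quasiSeparated pV
  haveI : (MV f V F).IsQuasicoherent := inferInstanceAs ((F.restrict O.ι).IsQuasicoherent)
  obtain ⟨m, hm, s, hxs, hs⟩ := hx ⟨x, hxV⟩
  have hW : Module.Flat (AV V) ((CechRes.Sec.secA pV (CohB1.genLocus _ s)).obj (MV f V F)) := by
    refine Exchange.TwistSections.flat_genLocus pV (TensorMod.Invertible.isInvertible_tensorPow hLV m)
      (MV f V F) s hs n₀ fun n hn => ?_
    let M := CohB1.tensorMod F (CohB1.tensorPow L (m * n))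
    haveI : (CohB1.tensorPow L (m * n)).IsQuasicoherent :=
      (Ample.GG.isCoh_of_isInvertible (TensorMod.Invertible.isInvertible_tensorPow hL (m * n))).1
    have hM : Coh.IsQCoh M := TensorMod.TensorQCoh.isQCoh_tensorMod F _
    haveI : M.IsQuasicoherent := hM
    haveI : ((Coh.push f).obj M).IsQuasicoherent := QCoh.Pushforward.isQCoh_pushforward f
    haveI := flat_secA_top f V M (h (m * n) (hn.trans (Nat.le_mul_of_pos_left n hm)))
    exact Module.Flat.of_linearEquiv (((CechRes.Sec.secA pV ⊤).mapIso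
      (twistRestrict L F (m * n) O ≪≫
        tensorIso (Iso.refl _) (Ample.Pow.powMul (L.restrict O.ι) m n).symm)).toLinearEquiv.symm)
  let W := CohB1.genLocus _ s
  let V' := V.ι ''ᵁ ⊤
  let U := O.ι ''ᵁ W
  have hV' : IsAffineOpen V' := (isAffineOpen_top (V : Scheme.{u})).image_of_isOpenImmersion V.ι
  have hU : IsAffineOpen U := hs.image_of_isOpenImmersion O.ι
  have hUV : U ≤ f ⁻¹ᵁ V' := by
    rw [show f ⁻¹ᵁ V' = O.ι ''ᵁ ⊤ from (image_morphismRestrict_preimage f V ⊤).symm]
    exact Scheme.Hom.image_mono O.ι le_top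
  have hxU : x ∈ U := ⟨⟨x, hxV⟩, hxs, rfl⟩
  rw [Groth.Agent.H19.FlatLocus.Scheme.isFlatOverAt_iff f F hV' hU hUV hxU]
  letI : Algebra Γ(Y, V') Γ(X, U) := (f.appLE V' U hUV).hom.toAlgebra
  letI : Module Γ(Y, V') Γ(F, U) := Module.compHom Γ(F, U) (f.appLE V' U hUV).hom
  haveI : IsScalarTower Γ(Y, V') Γ(X, U) Γ(F, U) := IsScalarTower.of_algebraMap_smul fun _ _ ↦ rfl
  haveI : Module.Flat Γ(Y, V') Γ(F, U) := by
    haveI := hW
    letI mA : Module (AV V) Γ(F, U) := ‹Module Γ(Y, V') Γ(F, U)›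
    refine Module.Flat.of_linearEquiv (R := AV V)
      ({ AddEquiv.refl _ with map_smul' := fun a t => ?_ } :
        Γ(F, U) ≃ₗ[AV V] (CechRes.Sec.secA pV W).obj (MV f V F))
    change (f.appLE V' U hUV) a • (show Γ(F, U) from t) =
      ((O.ι.appIso W).inv (CechRes.Sec.rho pV W a)) • (show Γ(F, U) from t)
    congr 1
    rw [Scheme.Opens.ι_appIso]
    have hr : CechRes.Sec.rho pV ⊤ a = CohDelta.Glue.pb (f ∣_ V) a := by
      rw [← ZarCoh.Exchange.Local.toGlobal_toSpec]
      show pV.appLE ⊤ ⊤ le_top _ = pV.app ⊤ _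
      rw [Scheme.Hom.app_eq_appLE]
      rfl
    rw [← CechRes.Sec.rho_res pV (le_top : W ≤ ⊤) a, hr]
    show (f.appLE V' U hUV) a = X.presheaf.map (homOfLE (Scheme.Hom.image_mono O.ι le_top)).op
      ((f ∣_ V).app ⊤ a)
    rw [morphismRestrict_app']
    exact (ConcreteCategory.congr_hom (Scheme.Hom.appLE_map f _
      (homOfLE (Scheme.Hom.image_mono O.ι le_top)).op) a).symm
  refine (Groth.Agent.H19.FlatLocus.flat_iff_killed (R := Γ(Y, V'))
    (hU.primeIdealOf ⟨x, hxU⟩).asIdeal.primeCompl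
    (LocalizedModule.mkLinearMap (hU.primeIdealOf ⟨x, hxU⟩).asIdeal.primeCompl Γ(F, U))).2
      fun J y hy => ⟨1, one_mem _, ?_⟩
  rw [one_smul]
  exact (Module.Flat.iff_lTensor_injective'.1 inferInstance J) (hy.trans (map_zero _).symm)


/-- Twists of a flat module of finite presentation by large powers have finite locally free direct
image, over an affine base. -/
theorem eventually_finLocFree_affine [IsAffine Y] [IsProper f] [LocallyOfFinitePresentation f] {L : X.Modules}
    (hA : CohB1.IsAmple L) {F : X.Modules} [F.IsQuasicoherent] (hF : CohB1.IsFP F)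
    (hfl : FlatMod.IsFlatOver f F) :
    ∃ n₀ : ℕ, ∀ n, n₀ ≤ n →
      FlatMod.IsFinLocFree ((Coh.push f).obj (CohB1.tensorMod F (CohB1.tensorPow L n))) := by
  have hLi : PicF.IsInvertible L := (Ample.Pow.isAmple_iff.1 hA).1
  obtain ⟨n₁, hn⟩ := ProjMor.Conv.eventually_veryAmple_pow f hA
  obtain ⟨r, i, hi, hc, ⟨eL⟩⟩ := hn (n₁ + 1) (by omega)
  haveI := ProjSpace.BaseChange.isProper_toBase r Y
  haveI : IsImmersion i := hi
  haveI hfp : IsProper (i ≫ CohB1.ProjSpaceOver.toBase r Y) := hc.symm ▸ ‹IsProper f›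
  haveI : IsProper i := IsProper.of_comp i (CohB1.ProjSpaceOver.toBase r Y)
  haveI : IsClosedImmersion i := IsClosedImmersion.of_isPreimmersion i i.isClosedMap.isClosed_range
  haveI : LocallyOfFinitePresentation i := Flat55.FibreTransfer.locallyOfFinitePresentation_of_comp
    (g := CohB1.ProjSpaceOver.toBase r Y) (hc.symm ▸ ‹LocallyOfFinitePresentation f›) inferInstance
  have hj : ∀ j : ℕ, ∃ m : ℕ, ∀ q : ℕ, m ≤ q → FlatMod.IsFinLocFree
      ((Coh.push f).obj (CohB1.tensorMod F (CohB1.tensorPow L (j + (n₁ + 1) * q)))) := by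
    intro j
    let M := CohB1.tensorMod F (CohB1.tensorPow L j)
    have hpow : PicF.IsInvertible (CohB1.tensorPow L j) := TensorMod.Invertible.isInvertible_tensorPow hLi j
    haveI : (CohB1.tensorPow L j).IsQuasicoherent := (Ample.GG.isCoh_of_isInvertible hpow).1
    haveI hM : M.IsQuasicoherent := TensorMod.TensorQCoh.isQCoh_tensorMod F (CohB1.tensorPow L j)
    let G := (Coh.push i).obj M
    have hG : CohB1.IsFP G := (DescAlg.FPPush.isFP_pushforward_iff i M).1 (HilbFib53.isFP_twist F hF hpow)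
    haveI : G.IsQuasicoherent := QCoh.Pushforward.isQCoh_pushforward i
    have hGfl : FlatMod.IsFlatOver (CohB1.ProjSpaceOver.toBase r Y) G := by
      rw [HilbFib53.isFlatOver_push_iff i]
      exact hc.symm ▸ isFlatOver_twist f hpow hfl
    obtain ⟨m, hm⟩ := ExchangeFP29.ProjFibre.exists_forall_regPt (n := r) G hG hGfl
    refine ⟨m, fun q hq => ?_⟩
    obtain ⟨j₀⟩ := ProjCoh.Coherent.nonempty_tensorPow_iso (n := r) (R := ULift.{u} ℤ) q
    refine TensorMod.LocFree.of_iso ?_
      (ExchangeFP29.ProjFibre.isFinLocFree_push G hG hGfl hm (d := (q : ℤ)) (by exact_mod_cast hq))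
    let e3 : (Scheme.Modules.pullback i).obj (Twist.twistOver r Y (q : ℤ)) ≅
        CohB1.tensorPow L ((n₁ + 1) * q) :=
      (Scheme.Modules.pullback i).mapIso
        ((Scheme.Modules.pullback (FlatStrat53.toP₀ r Y)).mapIso j₀ ≪≫ Ample.Pow.pullbackPow _ _ q) ≪≫
      Ample.Pow.pullbackPow i _ q ≪≫ Ample.Pow.powIso eL.symm q ≪≫ Ample.Pow.powMul L (n₁ + 1) q
    haveI := DerivedOX.ProjClosed.isIso_theta i (Twist.twistOver r Y (q : ℤ)) M
    let e6 : CohB1.tensorMod G (Twist.twistOver r Y (q : ℤ)) ≅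
        (Coh.push i).obj (CohB1.tensorMod F (CohB1.tensorPow L (j + (n₁ + 1) * q))) :=
      TensorMod.Basic.comm _ _ ≪≫ asIso (Modules.ProjFormula.theta i (Twist.twistOver r Y (q : ℤ)) M) ≪≫
        (Coh.push i).mapIso (tensorIso e3 (Iso.refl _) ≪≫ TensorMod.Basic.comm _ _ ≪≫
          TensorMod.Basic.assoc _ _ _ ≪≫ tensorIso (Iso.refl F) (Ample.Pow.powAdd L j ((n₁ + 1) * q)).symm)
    exact (Coh.push (CohB1.ProjSpaceOver.toBase r Y)).mapIso e6 ≪≫
      (Scheme.Modules.pushforwardComp i (CohB1.ProjSpaceOver.toBase r Y)).app _ ≪≫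
      (Scheme.Modules.pushforwardCongr hc).app _
  choose m hm using hj
  refine ⟨(n₁ + 1) * ((Finset.range (n₁ + 1)).sup m + 1), fun n hn => ?_⟩
  have hlt : n % (n₁ + 1) < n₁ + 1 := Nat.mod_lt _ (Nat.succ_pos _)
  have hq : m (n % (n₁ + 1)) ≤ n / (n₁ + 1) := by
    refine (Finset.le_sup (f := m) (Finset.mem_range.2 hlt)).trans ?_
    have : (Finset.range (n₁ + 1)).sup m + 1 ≤ n / (n₁ + 1) :=
      (Nat.le_div_iff_mul_le (Nat.succ_pos _)).2 (by rw [mul_comm]; exact hn)
    omega
  have h := hm (n % (n₁ + 1)) (n / (n₁ + 1)) hq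
  rwa [Nat.mod_add_div] at h

/-- Twists of a flat module of finite presentation by large powers have finite locally free direct
image, over a quasi-compact base. -/
theorem eventually_finLocFree [CompactSpace Y] [IsProper f] [LocallyOfFinitePresentation f] {L : X.Modules}
    (ha : RelAmple.IsRelAmple f L) {F : X.Modules} [F.IsQuasicoherent] (hF : CohB1.IsFP F)
    (hfl : FlatMod.IsFlatOver f F) :
    ∃ n₀ : ℕ, ∀ n, n₀ ≤ n →
      FlatMod.IsFinLocFree ((Coh.push f).obj (CohB1.tensorMod F (CohB1.tensorPow L n))) := by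
  classical
  choose V hV hxV using fun y : Y =>
    (exists_isAffineOpen_mem_and_subset (X := Y) (x := y) (U := ⊤) trivial).imp
      fun V hV => And.intro hV.1 hV.2.1
  obtain ⟨T, hT⟩ := isCompact_univ.elim_finite_subcover (fun y => (V y : Set Y))
    (fun y => (V y).2) fun y _ => Set.mem_iUnion.2 ⟨y, hxV y⟩
  have hn : ∀ y : Y, ∃ n₀ : ℕ, ∀ n, n₀ ≤ n → FlatMod.IsFinLocFree
      (((Coh.push f).obj (CohB1.tensorMod F (CohB1.tensorPow L n))).restrict (V y).ι) := fun y => by
    haveI : IsAffine (V y : Scheme.{u}) := hV y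
    let O := f ⁻¹ᵁ V y
    have sq := (isPullback_morphismRestrict f (V y)).flip
    haveI : IsProper (f ∣_ V y) := MorphismProperty.of_isPullback sq inferInstance
    haveI : LocallyOfFinitePresentation (f ∣_ V y) := MorphismProperty.of_isPullback sq inferInstance
    have hFO : CohB1.IsFP (F.restrict O.ι) := (SheafOfModules.isFinitePresentation O.toScheme.ringCatSheaf).prop_of_iso
      ((Scheme.Modules.restrictFunctorIsoPullback O.ι).app F).symm (H47.FlatLimit.isFP_pullback _ F hF)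
    have hflO : FlatMod.IsFlatOver (f ∣_ V y) (F.restrict O.ι) := fun x =>
      Flat55.FlatOverAt.of_iso _ ((Scheme.Modules.restrictFunctorIsoPullback O.ι).app F).symm x
        (Flat55.FlatOverAt.isFlatOverAt_baseChange _ _ _ _ sq F x (hfl (O.ι x)))
    obtain ⟨n₀, h⟩ := eventually_finLocFree_affine (f ∣_ V y) (ha.2 ⟨V y, hV y⟩) hFO hflO
    exact ⟨n₀, fun n hn => TensorMod.LocFree.of_iso
      ((Coh.push (f ∣_ V y)).mapIso (twistRestrict L F n O).symm ≪≫
        ((DerivedOX.RestrictRpush.pushRestrictIso f (V y)).app _).symm) (h n hn)⟩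
  choose n₀ hn₀ using hn
  refine ⟨T.sup n₀, fun n hn => TensorMod.TensorInv.isFinLocFree_of_locally fun y => ?_⟩
  obtain ⟨z, hz, hyz⟩ := Set.mem_iUnion₂.1 (hT (Set.mem_univ y))
  exact ⟨V z, hyz, hn₀ z n ((Finset.le_sup hz).trans hn)⟩

end Groth.Agent.H54.TwistFlat
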