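import Groth.Agent.H54.TwistFlat.Main
import Groth.Agent.H46.FibreProf.Unit
import Groth.Agent.Lib.ExchangeFP29.Descend
import Groth.Agent.Lib.TensorMod.LocIso
import Groth.Agent.Lib.Ample.RelAmple
import Groth.Agent.Lib.Exchange.NearFibre
import Groth.Agent.Lib.TensorMod.FPConv

/-!
# Flatness of the target of a contraction with vanishing higher direct images
-/

set_option autoImplicit false
set_option linter.style.haveILetI false

noncomputable section

universe u

open CategoryTheory Limits AlgebraicGeometry TopologicalSpace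

namespace Groth.Agent.H54.TwistFlat

open Groth.Agent.Lib Groth.Agent.Lib.TensorMod.Basic

variable {X S : Scheme.{u}}

/-- If all higher direct images vanish, so does the higher cohomology of the fibres. -/
theorem fiberRank_eq_zero_of_isZero_Rpush [CompactSpace S] (f : X ⟶ S) [IsProper f]
    [LocallyOfFinitePresentation f] [HasInjectiveResolutions X.Modules] (F : X.Modules) [F.IsQuasicoherent]
    (hF : CohB1.IsFP F) (hfl : FlatMod.IsFlatOver f F)
    (h : ∀ i, 0 < i → IsZero ((Coh.Rpush f i).obj F)) :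
    ∀ i, 0 < i → ∀ y, CohIII.fiberRank f F i y = 0 := by
  classical
  have hloc : ∀ y : S, ∃ (V : S.Opens) (N : ℕ), y ∈ V ∧
      ∀ i, N ≤ i → ∀ z ∈ V, CohIII.fiberRank f F i z = 0 := fun y => by
    obtain ⟨V, hV, hyV, -⟩ := exists_isAffineOpen_mem_and_subset (U := ⊤) (x := y) trivial
    haveI : IsAffine (V : Scheme.{u}) := hV
    obtain ⟨P, hP, hr⟩ := ExchangeFP29.Rep.exists_local f F hF hfl V
    obtain ⟨N, -, hN⟩ := hP.exists_euler
    exact ⟨V, N, hyV, fun i hi z hz => by
      rw [← ExchangeFP29.Main.k_pt V hz, (hr i).2]; exact hN i hi _⟩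
  choose V N hyV hN using hloc
  obtain ⟨T, hT⟩ := isCompact_univ.elim_finite_subcover (fun y => (V y : Set S))
    (fun y => (V y).2) fun y _ => Set.mem_iUnion.2 ⟨y, hyV y⟩
  suffices key : ∀ d i, 0 < i → T.sup N ≤ i + d → ∀ y, CohIII.fiberRank f F i y = 0 from
    fun i hi => key (T.sup N) i hi (by omega)
  intro d
  induction d with
  | zero =>
    intro i _ hi y
    obtain ⟨z, hz, hyz⟩ := Set.mem_iUnion₂.1 (hT (Set.mem_univ y))
    exact hN z i ((Finset.le_sup hz).trans (by omega)) y hyz
  | succ d ih =>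
    intro i hi hd
    exact ExchangeFP29.Descend.fiberRank_eq_zero f F hF hfl i (ih (i + 1) (by omega) (by omega)) (h i hi)

/-- The direct image is finite locally free when the fibres have no higher cohomology. -/
theorem isFinLocFree_push_of_isZero_Rpush [CompactSpace S] (f : X ⟶ S) [IsProper f]
    [LocallyOfFinitePresentation f] [HasInjectiveResolutions X.Modules] (F : X.Modules) [F.IsQuasicoherent]
    (hF : CohB1.IsFP F) (hfl : FlatMod.IsFlatOver f F)
    (h : ∀ i, 0 < i → IsZero ((Coh.Rpush f i).obj F)) :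
    FlatMod.IsFinLocFree ((Coh.push f).obj F) := by
  obtain ⟨e⟩ := ExchangeFP29.Main.nonempty_zeroIso f F
  exact TensorMod.LocFree.of_iso e (ExchangeFP29.Main.isFinLocFree_Rpush f F hF hfl 0 fun y =>
    ⟨fiberRank_eq_zero_of_isZero_Rpush f F hF hfl h 1 one_pos y, Or.inl rfl⟩)

theorem flat_of_contraction {X' : Scheme.{u}} [IsNoetherian S]
    (φ : X ⟶ S) [IsProper φ] [Flat φ] [HasInjectiveResolutions X.Modules]
    (L : X.Modules) (hLi : PicF.IsInvertible L)
    (q : X' ⟶ S) [IsProper q] (ψ : X ⟶ X') (hψ : ψ ≫ q = φ) (hψO : ∀ U : X'.Opens, IsIso (ψ.app U))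
    (N : X'.Modules) (hNi : PicF.IsInvertible N) (hN : RelAmple.IsRelAmple q N)
    (m : ℕ) (hm : 0 < m) (e : (Scheme.Modules.pullback ψ).obj N ≅ CohB1.tensorPow L m)
    (n : ℕ) (hn : 0 < n)
    (hvan : ∀ (i j : ℕ), 0 < i → 1 ≤ j → IsZero ((Coh.Rpush φ i).obj (CohB1.tensorPow L (j * n)))) :
    Flat q := by
  let M := CohB1.tensorPow N n
  have hMi : PicF.IsInvertible M := TensorMod.Invertible.isInvertible_tensorPow hNi n
  have hM : RelAmple.IsRelAmple q M := (Lib.Ample.RelAmple.isRelAmple_tensorPow_iff q hNi hn).1 hN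
  haveI : (Coh.structureModule X').IsQuasicoherent :=
    (Lib.Ample.GG.isCoh_of_isInvertible (PicLoc.isInvertible_structureModule X')).1
  have hfl : FlatMod.IsFlatOver q (Coh.structureModule X') := by
    refine isFlatOver_of_finLocFree q hM hMi 1 fun j hj => ?_
    let G := CohB1.tensorPow L ((m * j) * n)
    have hGi : PicF.IsInvertible G := TensorMod.Invertible.isInvertible_tensorPow hLi _
    have hGl : FlatMod.IsFinLocFree G := TensorMod.LocFree.of_rank (TensorMod.LocFree.of_isInvertible hGi)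
    haveI : G.IsQuasicoherent := (Lib.Ample.GG.isCoh_of_isInvertible hGi).1
    have hG := isFinLocFree_push_of_isZero_Rpush φ G (TensorMod.FPConv.isFP_of_isFinLocFree hGl)
      (_root_.ZarCoh.Exchange.NearFibre.isFlatOver_of_isFinLocFree φ hGl)
      (fun i hi => hvan i (m * j) hi (Nat.mul_pos hm (by omega)))
    refine TensorMod.LocFree.of_iso ?_ hG
    have hK : PicF.IsInvertible (CohB1.tensorPow M j) := TensorMod.Invertible.isInvertible_tensorPow hMi j
    haveI := TensorMod.LocIso.isIso_unit_of_isFinLocFree ψ hψO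
      (TensorMod.LocFree.of_rank (TensorMod.LocFree.of_isInvertible hK))
    let e1 : (Scheme.Modules.pullback ψ).obj (CohB1.tensorPow M j) ≅ G :=
      Lib.Ample.Pow.pullbackPow ψ M j ≪≫
        Lib.Ample.Pow.powIso (Lib.Ample.Pow.pullbackPow ψ N n ≪≫ Lib.Ample.Pow.powIso e n) j ≪≫
        Lib.Ample.Pow.powIso (Lib.Ample.Pow.powMul L m n) j ≪≫ Lib.Ample.Pow.powMul L (m * n) j ≪≫
        eqToIso (congrArg (CohB1.tensorPow L) (Nat.mul_right_comm m n j))
    exact (Coh.push φ).mapIso e1.symm ≪≫ ((Scheme.Modules.pushforwardCongr hψ).app _).symm ≪≫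
      ((Scheme.Modules.pushforwardComp ψ q).app _).symm ≪≫
      (Coh.push q).mapIso ((asIso ((Scheme.Modules.pullbackPushforwardAdjunction ψ).unit.app
        (CohB1.tensorPow M j))).symm ≪≫ (TensorMod.Basic.leftUnit _).symm)
  exact (Flat.iff_flat_stalkMap q).2 fun x =>
    (H46.FibreProf.Unit.isFlatOverAt_structureModule q x).1 (hfl x)

end Groth.Agent.H54.TwistFlat
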