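import Groth.Agent.H54.TwistFlat.Main
import Groth.Agent.Lib.ExchangeFP29.MainBC
import Groth.Agent.Lib.SurfInt.Push
import Groth.Agent.Lib.Ample.RelAmple
import Groth.Agent.Lib.Exchange.NearFibre
import Groth.Agent.Lib.TensorMod.FPConv
import Groth.Agent.H26.FreeCrit

/-!
# Uniform vanishing on the fibres of high powers of a relatively ample module
-/

set_option autoImplicit false
set_option linter.style.haveILetI false

noncomputable section

universe u

open CategoryTheory Limits AlgebraicGeometry TopologicalSpace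

namespace Groth.Agent.H54.TwistFlat

open Groth.Agent.Lib Groth.Agent.Lib.TensorMod.Basic

variable {X P S : Scheme.{u}}

/-- The fibre ranks only depend on the isomorphism class. -/
theorem fiberRank_congr (f : X ⟶ S) {A B : X.Modules} (e : A ≅ B) (i : ℕ) (t : S) :
    CohIII.fiberRank f A i t = CohIII.fiberRank f B i t := by
  letI : (f.fiber t).Over (Spec (CommRingCat.of (S.residueField t))) :=
    ⟨f.fiberToSpecResidueField t⟩
  exact (Curves.LES.isoK (S.residueField t)
    ((Scheme.Modules.pullback (f.fiberι t)).mapIso e) i).finrank_eq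

/-- The fibre ranks do not see a closed immersion. -/
theorem fiberRank_push (f : X ⟶ S) (k : X ⟶ P) [IsClosedImmersion k] (p : P ⟶ S) (hk : k ≫ p = f)
    (N : X.Modules) [N.IsQuasicoherent] (i : ℕ) (s : S) :
    CohIII.fiberRank p ((Coh.push k).obj N) i s = CohIII.fiberRank f N i s := by
  let φ := S.fromSpecResidueField s
  letI : (pullback p φ).Over (Spec (CommRingCat.of (S.residueField s))) := ⟨pullback.snd p φ⟩
  letI : (pullback f φ).Over (Spec (CommRingCat.of (S.residueField s))) := ⟨pullback.snd f φ⟩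
  let kT : pullback f φ ⟶ pullback p φ :=
    pullback.lift (pullback.fst f φ ≫ k) (pullback.snd f φ)
      (by rw [Category.assoc, hk, pullback.condition])
  have h1 : kT ≫ pullback.snd p φ = pullback.snd f φ := pullback.lift_snd _ _ _
  have sq : IsPullback (pullback.fst f φ) kT k (pullback.fst p φ) := by
    refine IsPullback.of_bot ?_ (pullback.lift_fst _ _ _).symm (IsPullback.of_hasPullback p φ)
    rw [h1, hk]
    exact IsPullback.of_hasPullback f φ
  haveI : IsClosedImmersion kT := MorphismProperty.of_isPullback sq inferInstance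
  haveI := ZarCoh.AffineBC.isIso_bc sq N
  haveI : ((Scheme.Modules.pullback (pullback.fst f φ)).obj N).IsQuasicoherent :=
    QCoh.Pullback.isQCoh_pullback _ N
  exact ((Curves.LES.isoK (S.residueField s) (asIso (ZarCoh.AffineBC.bc sq N)) i).finrank_eq).trans
    (SurfInt.Push.finrank_push (k := S.residueField s) (X := pullback p φ) (Z := pullback f φ) kT h1 _ i)

/-- High powers of an ample module have no higher fibre cohomology, over an affine base. -/
theorem eventually_fiberRank_affine [IsAffine S] (f : X ⟶ S) [IsProper f] [Flat f]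
    [LocallyOfFinitePresentation f] {L : X.Modules} (hA : CohB1.IsAmple L) :
    ∃ n₀ : ℕ, ∀ n, n₀ ≤ n → ∀ (s : S) (p : ℕ), 1 ≤ p →
      CohIII.fiberRank f (CohB1.tensorPow L n) p s = 0 := by
  have hLi : PicF.IsInvertible L := (Ample.Pow.isAmple_iff.1 hA).1
  obtain ⟨n₁, hn⟩ := ProjMor.Conv.eventually_veryAmple_pow f hA
  obtain ⟨r, i, hi, hc, ⟨eL⟩⟩ := hn (n₁ + 1) (by omega)
  haveI := ProjSpace.BaseChange.isProper_toBase r S
  haveI : IsImmersion i := hi
  haveI hfp : IsProper (i ≫ CohB1.ProjSpaceOver.toBase r S) := hc.symm ▸ ‹IsProper f›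
  haveI : IsProper i := IsProper.of_comp i (CohB1.ProjSpaceOver.toBase r S)
  haveI : IsClosedImmersion i := IsClosedImmersion.of_isPreimmersion i i.isClosedMap.isClosed_range
  haveI : LocallyOfFinitePresentation i := Flat55.FibreTransfer.locallyOfFinitePresentation_of_comp
    (g := CohB1.ProjSpaceOver.toBase r S) (hc.symm ▸ ‹LocallyOfFinitePresentation f›) inferInstance
  have hj : ∀ j : ℕ, ∃ m : ℕ, ∀ q : ℕ, m ≤ q → ∀ (s : S) (p : ℕ), 1 ≤ p →
      CohIII.fiberRank f (CohB1.tensorPow L (j + (n₁ + 1) * q)) p s = 0 := by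
    intro j
    let M := CohB1.tensorPow L j
    have hpow : PicF.IsInvertible M := TensorMod.Invertible.isInvertible_tensorPow hLi j
    have hl : FlatMod.IsFinLocFree M :=
      TensorMod.LocFree.of_rank (TensorMod.LocFree.of_isInvertible hpow)
    haveI : M.IsQuasicoherent := (Ample.GG.isCoh_of_isInvertible hpow).1
    let G := (Coh.push i).obj M
    have hG : CohB1.IsFP G :=
      (DescAlg.FPPush.isFP_pushforward_iff i M).1 (TensorMod.FPConv.isFP_of_isFinLocFree hl)
    haveI : G.IsQuasicoherent := QCoh.Pushforward.isQCoh_pushforward i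
    have hGfl : FlatMod.IsFlatOver (CohB1.ProjSpaceOver.toBase r S) G := by
      rw [HilbFib53.isFlatOver_push_iff i]
      exact hc.symm ▸ _root_.ZarCoh.Exchange.NearFibre.isFlatOver_of_isFinLocFree f hl
    obtain ⟨m, hm⟩ := ExchangeFP29.ProjFibre.exists_forall_regPt (n := r) G hG hGfl
    refine ⟨m, fun q hq s p hp => ?_⟩
    obtain ⟨j₀⟩ := ProjCoh.Coherent.nonempty_tensorPow_iso (n := r) (R := ULift.{u} ℤ) q
    let e3 : (Scheme.Modules.pullback i).obj (Twist.twistOver r S (q : ℤ)) ≅
        CohB1.tensorPow L ((n₁ + 1) * q) :=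
      (Scheme.Modules.pullback i).mapIso
        ((Scheme.Modules.pullback (FlatStrat53.toP₀ r S)).mapIso j₀ ≪≫ Ample.Pow.pullbackPow _ _ q) ≪≫
      Ample.Pow.pullbackPow i _ q ≪≫ Ample.Pow.powIso eL.symm q ≪≫ Ample.Pow.powMul L (n₁ + 1) q
    haveI := DerivedOX.ProjClosed.isIso_theta i (Twist.twistOver r S (q : ℤ)) M
    let e6 : CohB1.tensorMod G (Twist.twistOver r S (q : ℤ)) ≅
        (Coh.push i).obj (CohB1.tensorPow L (j + (n₁ + 1) * q)) :=
      TensorMod.Basic.comm _ _ ≪≫ asIso (Modules.ProjFormula.theta i (Twist.twistOver r S (q : ℤ)) M) ≪≫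
        (Coh.push i).mapIso (tensorIso e3 (Iso.refl _) ≪≫ TensorMod.Basic.comm _ _ ≪≫
          (Ample.Pow.powAdd L j ((n₁ + 1) * q)).symm)
    haveI : (CohB1.tensorPow L (j + (n₁ + 1) * q)).IsQuasicoherent :=
      (Ample.GG.isCoh_of_isInvertible (TensorMod.Invertible.isInvertible_tensorPow hLi _)).1
    rw [← fiberRank_push f i _ hc, ← fiberRank_congr _ e6]
    exact ExchangeFP29.ProjFibre.rank_eq_zero_of_le G hG hGfl (hm s) hp (by omega)
  choose m hm using hj
  refine ⟨(n₁ + 1) * ((Finset.range (n₁ + 1)).sup m + 1), fun n hn => ?_⟩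
  have hlt : n % (n₁ + 1) < n₁ + 1 := Nat.mod_lt _ (Nat.succ_pos _)
  have hq : m (n % (n₁ + 1)) ≤ n / (n₁ + 1) := by
    refine (Finset.le_sup (f := m) (Finset.mem_range.2 hlt)).trans ?_
    have : (Finset.range (n₁ + 1)).sup m + 1 ≤ n / (n₁ + 1) :=
      (Nat.le_div_iff_mul_le (Nat.succ_pos _)).2 (by rw [mul_comm]; exact hn)
    omega
  have h := hm (n % (n₁ + 1)) (n / (n₁ + 1)) hq
  rwa [Nat.mod_add_div] at h

/-- High powers of a relatively ample module have no higher fibre cohomology, over a quasi-compact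
base. -/
theorem eventually_fiberRank [CompactSpace S] (f : X ⟶ S) [IsProper f] [Flat f]
    [LocallyOfFinitePresentation f] {L : X.Modules} (ha : RelAmple.IsRelAmple f L) :
    ∃ n₀ : ℕ, ∀ n, n₀ ≤ n → ∀ (s : S) (p : ℕ), 1 ≤ p →
      CohIII.fiberRank f (CohB1.tensorPow L n) p s = 0 := by
  classical
  choose V hV hxV using fun y : S =>
    (exists_isAffineOpen_mem_and_subset (X := S) (x := y) (U := ⊤) trivial).imp
      fun V hV => And.intro hV.1 hV.2.1
  obtain ⟨T, hT⟩ := isCompact_univ.elim_finite_subcover (fun y => (V y : Set S))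
    (fun y => (V y).2) fun y _ => Set.mem_iUnion.2 ⟨y, hxV y⟩
  have hLi := Lib.Ample.RelAmple.isInvertible_of_isRelAmple ha
  have hn : ∀ y : S, ∃ n₀ : ℕ, ∀ n, n₀ ≤ n → ∀ s ∈ V y, ∀ p : ℕ, 1 ≤ p →
      CohIII.fiberRank f (CohB1.tensorPow L n) p s = 0 := fun y => by
    haveI : IsAffine (V y : Scheme.{u}) := hV y
    let O := f ⁻¹ᵁ V y
    have sq := (isPullback_morphismRestrict f (V y)).flip
    haveI : IsProper (f ∣_ V y) := MorphismProperty.of_isPullback sq inferInstance
    haveI : LocallyOfFinitePresentation (f ∣_ V y) := MorphismProperty.of_isPullback sq inferInstance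
    haveI : Flat (f ∣_ V y) := MorphismProperty.of_isPullback sq inferInstance
    obtain ⟨n₀, h⟩ := eventually_fiberRank_affine (f ∣_ V y) (ha.2 ⟨V y, hV y⟩)
    refine ⟨n₀, fun n hn s hs p hp => ?_⟩
    have hl : FlatMod.IsFinLocFree (CohB1.tensorPow L n) := TensorMod.LocFree.of_rank
      (TensorMod.LocFree.of_isInvertible (TensorMod.Invertible.isInvertible_tensorPow hLi n))
    have hfp := TensorMod.FPConv.isFP_of_isFinLocFree hl
    haveI := H26.FreeCrit.isQuasicoherent_of_isFP hfp
    rw [← show (V y).ι ⟨s, hs⟩ = s from rfl, ← ExchangeFP29.FieldPoint.fiberRank_baseChange f _ hfp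
      (_root_.ZarCoh.Exchange.NearFibre.isFlatOver_of_isFinLocFree f hl) (V y).ι O.ι (f ∣_ V y) sq p ⟨s, hs⟩,
      fiberRank_congr _ (((Scheme.Modules.restrictFunctorIsoPullback O.ι).app _).symm ≪≫
        Ample.Pow.restrictPow O.ι L n)]
    exact h n hn ⟨s, hs⟩ p hp
  choose n₀ hn₀ using hn
  refine ⟨T.sup n₀, fun n hn s => ?_⟩
  obtain ⟨z, hz, hsz⟩ := Set.mem_iUnion₂.1 (hT (Set.mem_univ s))
  exact hn₀ z n ((Finset.le_sup hz).trans hn) s hsz

/-- Vanishing on the preimage of an affine open where the fibre cohomology vanishes. -/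
theorem subsingleton_HHon (f : X ⟶ S) [IsProper f] [LocallyOfFinitePresentation f] (F : X.Modules)
    [F.IsQuasicoherent] (hF : CohB1.IsFP F) (hfl : FlatMod.IsFlatOver f F) (p : ℕ) {U : S.Opens}
    (hU : IsAffineOpen U) (h : ∀ y ∈ U, CohIII.fiberRank f F p y = 0) :
    Subsingleton (Coh.HHon X F (f ⁻¹ᵁ U) p) := by
  haveI : IsAffine (U : Scheme.{u}) := hU
  obtain ⟨P, -, he, -, hz⟩ := ExchangeFP29.Main.exists_of_vanish f F hF hfl U
  obtain ⟨e⟩ := he p
  haveI := (hz p h).1
  exact (((Curves.LES.isoK (_root_.ZarCoh.Exchange.Local.AV U)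
    (_root_.ZarCoh.Exchange.Main.oneIso (_root_.ZarCoh.Exchange.Local.AV U)
      (_root_.ZarCoh.Exchange.Local.MV f U F)) p).symm.trans
    ((_root_.ZarCoh.Exchange.Main.linearEquivApp (_root_.ZarCoh.Exchange.Local.AV U) _ e
      (ModuleCat.of (_root_.ZarCoh.Exchange.Local.AV U) (_root_.ZarCoh.Exchange.Local.AV U))).symm.trans
      (_root_.ZarCoh.Exchange.Main.tOne (_root_.ZarCoh.Exchange.Local.AV U) P _)))).toEquiv.subsingleton

/-- Powers of a lifting of a relatively ample module along a surjection of bases have the same fibre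
ranks. -/
theorem fiberRank_lift {X' S' : Scheme.{u}} (f : X ⟶ S) [IsProper f] [LocallyOfFinitePresentation f]
    {f' : X' ⟶ S'} [IsProper f'] [LocallyOfFinitePresentation f'] [Flat f'] (i : S ⟶ S') (i' : X ⟶ X')
    (hc : IsPullback i' f f' i) {L : X.Modules} {L' : X'.Modules} (hL' : PicF.IsInvertible L')
    (e : (Scheme.Modules.pullback i').obj L' ≅ L) (d p : ℕ) (s : S) :
    CohIII.fiberRank f' (CohB1.tensorPow L' d) p (i s) = CohIII.fiberRank f (CohB1.tensorPow L d) p s := by
  have hl : FlatMod.IsFinLocFree (CohB1.tensorPow L' d) := TensorMod.LocFree.of_rank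
    (TensorMod.LocFree.of_isInvertible (TensorMod.Invertible.isInvertible_tensorPow hL' d))
  have hfp := TensorMod.FPConv.isFP_of_isFinLocFree hl
  haveI := H26.FreeCrit.isQuasicoherent_of_isFP hfp
  rw [← ExchangeFP29.FieldPoint.fiberRank_baseChange f' _ hfp
    (_root_.ZarCoh.Exchange.NearFibre.isFlatOver_of_isFinLocFree f' hl) i i' f hc p s]
  exact fiberRank_congr f (Ample.Pow.pullbackPow i' L' d ≪≫ Ample.Pow.powIso e d) p s

end Groth.Agent.H54.TwistFlat
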